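import Groth.Agent.H16Derived.RDerLES.Hom

/-!
# Existence of resolutions of short exact sequences and of the long exact sequence
-/

set_option autoImplicit false
set_option linter.style.haveILetI false

universe v u v' u'

open CategoryTheory CategoryTheory.Limits

namespace Groth.Agent.H16Derived.RDerLES

variable {C : Type u} [Category.{v} C] [Abelian C]

lemma quasiIso_of_exact {X : C} (K : CochainComplex C ℕ) (η : (CochainComplex.single₀ C).obj X ⟶ K)
    (a : X ⟶ K.X 0) (ha : η.f 0 = a) (hm : Mono a) (w : a ≫ K.d 0 1 = 0)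
    (h₀ : (ShortComplex.mk a (K.d 0 1) w).Exact) (hn : ∀ n, K.ExactAt (n + 1)) : QuasiIso η := by
  refine ⟨fun n => ?_⟩
  cases n with
  | zero =>
    rw [CochainComplex.quasiIsoAt₀_iff, ShortComplex.quasiIso_iff_of_zeros]
    · refine (ShortComplex.exact_and_mono_f_iff_of_iso ?_).2 ⟨h₀, hm⟩
      exact ShortComplex.isoMk (Iso.refl _) (Iso.refl _) (Iso.refl _)
        (show 𝟙 X ≫ a = η.f 0 ≫ 𝟙 _ by rw [ha, Category.id_comp, Category.comp_id])
        ((Category.id_comp (K.d 0 1)).trans (Category.comp_id _).symm)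
    all_goals first
      | rfl
      | exact K.shape _ _ (by simp)
  | succ n =>
    rw [quasiIsoAt_iff_exactAt η (n + 1) (CochainComplex.exactAt_succ_single_obj _ _)]
    exact hn n

/-- The horseshoe lemma. -/
theorem nonempty_sesRes [HasInjectiveResolutions C] (S : ShortComplex C) (hS : S.ShortExact) :
    Nonempty (RDer.SESRes S) := by
  let I₁ := injectiveResolution S.X₁
  let I₃ := injectiveResolution S.X₃
  haveI := hS.mono_f
  haveI := hS.epi_g
  let α : S.X₂ ⟶ I₁.cocomplex.X 0 := Injective.factorThru (aug I₁) S.f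
  have hα : S.f ≫ α = aug I₁ := Injective.comp_factorThru _ _
  let ε : S.X₃ ⟶ I₁.cocomplex.X 1 := hS.exact.desc (α ≫ I₁.cocomplex.d 0 1) (by rw [reassoc_of% hα, aug_d])
  have hε : S.g ≫ ε = α ≫ I₁.cocomplex.d 0 1 := hS.exact.g_desc _ _
  let L : CochainComplex C ℕ := CochainComplex.of (fun n => I₁.cocomplex.X (n + 1))
    (fun n => -I₁.cocomplex.d (n + 1) (n + 1 + 1)) (fun n => by simp)
  haveI hL : ∀ n, Injective (L.X n) := fun n => inferInstanceAs (Injective (I₁.cocomplex.X (n + 1)))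
  have hεd : (-ε : S.X₃ ⟶ L.X 0) ≫ L.d 0 1 = 0 := by
    have : L.d 0 1 = -I₁.cocomplex.d 1 2 := CochainComplex.of_d (fun n => I₁.cocomplex.X (n + 1))
      (fun n => -I₁.cocomplex.d (n + 1) (n + 1 + 1)) 0
    rw [this]
    refine (Preadditive.neg_comp_neg _ _).trans ((cancel_epi S.g).1 ?_)
    rw [reassoc_of% hε, I₁.cocomplex.d_comp_d, comp_zero, comp_zero]
  let η : (CochainComplex.single₀ C).obj S.X₃ ⟶ L := (CochainComplex.fromSingle₀Equiv L S.X₃).symm ⟨-ε, hεd⟩
  let σ : I₃.cocomplex ⟶ L := RDer.descToInjectives (𝟙 _) I₃.cocomplex I₃.ι L η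
  let s : ∀ n, I₃.cocomplex.X n ⟶ I₁.cocomplex.X (n + 1) := fun n => σ.f n
  have hs₀ : aug I₃ ≫ s 0 = -ε := by
    refine (RDer.ι_descToInjectives_f_zero (𝟙 _) I₃.cocomplex I₃.ι L η).trans ?_
    simp [η]
  have hs : ∀ n, s n ≫ I₁.cocomplex.d (n + 1) (n + 1 + 1) + I₃.cocomplex.d n (n + 1) ≫ s (n + 1) = 0 := by
    intro n
    have e := σ.comm n (n + 1)
    rw [show L.d n (n + 1) = -I₁.cocomplex.d (n + 1) (n + 1 + 1) from
      CochainComplex.of_d (fun n => I₁.cocomplex.X (n + 1)) (fun n => -I₁.cocomplex.d (n + 1) (n + 1 + 1)) n] at e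
    have e' : I₃.cocomplex.d n (n + 1) ≫ s (n + 1) = -(s n ≫ I₁.cocomplex.d (n + 1) (n + 1 + 1)) :=
      e.symm.trans (Preadditive.comp_neg _ _)
    rw [e', add_neg_cancel]
  let M : CochainComplex C ℕ := CochainComplex.of (fun n => I₁.cocomplex.X n ⊞ I₃.cocomplex.X n)
    (fun n => biprod.lift (biprod.desc (I₁.cocomplex.d n (n + 1)) (s n)) (biprod.snd ≫ I₃.cocomplex.d n (n + 1)))
    (fun n => by
      apply biprod.hom_ext
      · apply biprod.hom_ext'
        · simp
        · simpa using hs n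
      · simp)
  have hMd : ∀ n, M.d n (n + 1) =
      biprod.lift (biprod.desc (I₁.cocomplex.d n (n + 1)) (s n)) (biprod.snd ≫ I₃.cocomplex.d n (n + 1)) :=
    fun n => CochainComplex.of_d (fun n => I₁.cocomplex.X n ⊞ I₃.cocomplex.X n)
      (fun n => biprod.lift (biprod.desc (I₁.cocomplex.d n (n + 1)) (s n)) (biprod.snd ≫ I₃.cocomplex.d n (n + 1))) n
  let f : I₁.cocomplex ⟶ M :=
    { f := fun n => biprod.inl
      comm' := fun i j h => by
        obtain rfl : i + 1 = j := h
        rw [hMd]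
        apply biprod.hom_ext <;> simp }
  let g : M ⟶ I₃.cocomplex :=
    { f := fun n => biprod.snd
      comm' := fun i j h => by
        obtain rfl : i + 1 = j := h
        rw [hMd]
        simp }
  have hfg : f ≫ g = 0 := by ext n; simp [f, g]
  have hT : (ShortComplex.mk f g hfg).ShortExact := HomologicalComplex.shortExact_of_degreewise_shortExact _ fun n =>
    ({ r := biprod.fst, s := biprod.inr, f_r := biprod.inl_fst, s_g := biprod.inr_snd, id := biprod.total } :
      ((ShortComplex.mk f g hfg).map (HomologicalComplex.eval C _ n)).Splitting).shortExact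
  let b : S.X₂ ⟶ M.X 0 := biprod.lift α (S.g ≫ aug I₃)
  have hMd₀ : M.d 0 1 =
      biprod.lift (biprod.desc (I₁.cocomplex.d 0 1) (s 0)) (biprod.snd ≫ I₃.cocomplex.d 0 1) := hMd 0
  have hb : b ≫ M.d 0 1 = 0 := by
    rw [hMd₀]
    apply biprod.hom_ext <;> simp [b, hs₀, hε, aug_d]
  let ι₂ : (CochainComplex.single₀ C).obj S.X₂ ⟶ M := (CochainComplex.fromSingle₀Equiv M S.X₂).symm ⟨b, hb⟩
  haveI hMinj : ∀ n, Injective (M.X n) := fun n => inferInstanceAs (Injective (I₁.cocomplex.X n ⊞ I₃.cocomplex.X n))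
  have hq : QuasiIso ι₂ := by
    refine quasiIso_of_exact M ι₂ b (by simp [ι₂]) ?_ hb ?_ fun n => ?_
    · refine Preadditive.mono_of_cancel_zero _ fun {W} y hy => ?_
      have h₁ : y ≫ S.g = 0 := by
        rw [← cancel_mono (aug I₃), zero_comp, Category.assoc]
        simpa [b] using hy =≫ biprod.snd
      obtain ⟨x, rfl⟩ : ∃ x, x ≫ S.f = y := ⟨hS.exact.lift y h₁, hS.exact.lift_f y h₁⟩
      have h₂ : (x ≫ S.f) ≫ α = 0 := by simpa [b] using hy =≫ biprod.fst
      rw [Category.assoc, hα, ← zero_comp] at h₂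
      rw [(cancel_mono (aug I₁)).1 h₂, zero_comp]
    · rw [ShortComplex.exact_iff_exact_up_to_refinements]
      intro W (c : W ⟶ I₁.cocomplex.X 0 ⊞ I₃.cocomplex.X 0) (hc : c ≫ M.d 0 1 = 0)
      rw [hMd₀] at hc
      have hc₁ : c ≫ biprod.desc (I₁.cocomplex.d 0 1) (s 0) = 0 := by simpa using hc =≫ biprod.fst
      have hc₃ : (c ≫ biprod.snd) ≫ I₃.cocomplex.d 0 1 = 0 := by simpa using hc =≫ biprod.snd
      obtain ⟨W₁, π₁, hπ₁, z, hz⟩ := (exact_aug I₃).exact_up_to_refinements _ hc₃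
      obtain ⟨W₂, π₂, hπ₂, y, hy⟩ := surjective_up_to_refinements_of_epi S.g z
      have hz' : π₁ ≫ c ≫ biprod.snd = z ≫ aug I₃ := hz
      have ha : (π₂ ≫ π₁ ≫ c ≫ biprod.fst - y ≫ α) ≫ I₁.cocomplex.d 0 1 = 0 := by
        have e := π₂ ≫= π₁ ≫= hc₁
        rw [biprod.desc_eq] at e
        simp only [Preadditive.comp_add] at e
        rw [reassoc_of% hz', reassoc_of% hy, hs₀] at e
        simp only [Preadditive.comp_neg, comp_zero] at e
        rw [Preadditive.sub_comp, Category.assoc y, ← hε]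
        simp only [Category.assoc]
        rw [sub_eq_add_neg]
        exact e
      obtain ⟨W₃, π₃, hπ₃, x, hx⟩ := (exact_aug I₁).exact_up_to_refinements _ ha
      have hx' : π₃ ≫ (π₂ ≫ π₁ ≫ c ≫ biprod.fst - y ≫ α) = x ≫ aug I₁ := hx
      refine ⟨W₃, π₃ ≫ π₂ ≫ π₁, epi_comp' hπ₃ (epi_comp' hπ₂ hπ₁), π₃ ≫ y + x ≫ S.f, ?_⟩
      show _ = (π₃ ≫ y + x ≫ S.f) ≫ biprod.lift α (S.g ≫ aug I₃)
      apply biprod.hom_ext
      · simp only [Category.assoc, biprod.lift_fst, Preadditive.add_comp, hα, ← hx', Preadditive.comp_sub]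
        abel
      · simp only [Category.assoc, biprod.lift_snd, Preadditive.add_comp, hz', reassoc_of% hy, S.zero_assoc,
          zero_comp, comp_zero, add_zero]
    · exact hT.exactAt_X₂ (n + 1) (RDer.res_exactAt_succ I₁.cocomplex I₁.ι n) (RDer.res_exactAt_succ I₃.cocomplex I₃.ι n)
  refine ⟨{ I₁ := I₁, I₂ := { cocomplex := M, ι := ι₂, injective := hMinj, quasiIso := hq }, I₃ := I₃, f := f, g := g,
            zero := hfg, ι_f := ?_, ι_g := ?_, shortExact := hT }⟩
  · refine HomologicalComplex.from_single_hom_ext ?_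
    rw [HomologicalComplex.comp_f, HomologicalComplex.comp_f]
    show aug I₁ ≫ f.f 0 = ((CochainComplex.single₀ C).map S.f).f 0 ≫ ι₂.f 0
    apply biprod.hom_ext <;> simp [f, ι₂, b, hα]
  · refine HomologicalComplex.from_single_hom_ext ?_
    rw [HomologicalComplex.comp_f, HomologicalComplex.comp_f]
    show ι₂.f 0 ≫ g.f 0 = ((CochainComplex.single₀ C).map S.g).f 0 ≫ aug I₃
    simp [g, ι₂, b]

variable [HasInjectiveResolutions C] {D : Type u'} [Category.{v'} D] [Abelian D] (F : C ⥤ D) [F.Additive]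

/-- The chosen resolution of a short exact sequence. -/
noncomputable def res (S : ShortComplex C) (hS : S.ShortExact) : RDer.SESRes S := (nonempty_sesRes S hS).some

lemma ι_f_zero {S : ShortComplex C} (T : RDer.SESRes S) : T.I₁.ι.f 0 ≫ T.f.f 0 = S.f ≫ T.I₂.ι.f 0 := ι_f₀ T

lemma ι_g_zero {S : ShortComplex C} (T : RDer.SESRes S) : T.I₂.ι.f 0 ≫ T.g.f 0 = S.g ≫ T.I₃.ι.f 0 := ι_g₀ T

/-- The right derived functors have a long exact sequence. -/
theorem nonempty_derivedLES : Nonempty (RDer.DerivedLES F) := by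
  refine ⟨
    { δ := fun S hS n₀ n₁ h => (res S hS).delta F n₀ n₁ h
      δ_eq := fun S hS T n₀ n₁ h => delta_eq (res S hS) F T n₀ n₁ h
      δ_natural := fun {S S'} hS hS' φ n₀ n₁ h => delta_natural (res S hS) F hS (res S' hS') φ n₀ n₁ h
      exact₂ := fun S hS n => ?_
      comp_δ := fun S hS n₀ n₁ h => ?_
      exact₃ := fun S hS n₀ n₁ h => ?_
      δ_comp := fun S hS n₀ n₁ h => ?_
      exact₁ := fun S hS n₀ n₁ h => ?_ }⟩
  · let T := res S hS
    refine ShortComplex.exact_of_iso ?_ ((T.map_shortExact F).homology_exact₂ n)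
    exact (ShortComplex.isoMk (T.I₁.isoRightDerivedObj F n) (T.I₂.isoRightDerivedObj F n) (T.I₃.isoRightDerivedObj F n)
      (InjectiveResolution.isoRightDerivedObj_hom_naturality S.f _ _ T.f (ι_f_zero T) F n).symm
      (InjectiveResolution.isoRightDerivedObj_hom_naturality S.g _ _ T.g (ι_g_zero T) F n).symm).symm
  · let T := res S hS
    rw [← cancel_mono (T.I₁.isoRightDerivedObj F n₁).hom, Category.assoc, T.delta_comp_isoRightDerivedObj_hom, zero_comp]
    refine (Category.assoc _ _ _).symm.trans ((congrArg (· ≫ _)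
      (InjectiveResolution.isoRightDerivedObj_hom_naturality S.g _ _ T.g (ι_g_zero T) F n₀)).trans ?_)
    exact (Category.assoc _ _ _).trans ((congrArg (fun k => (T.I₂.isoRightDerivedObj F n₀).hom ≫ k)
      ((T.map_shortExact F).comp_δ n₀ n₁ h)).trans comp_zero)
  · let T := res S hS
    refine ShortComplex.exact_of_iso ?_ ((T.map_shortExact F).homology_exact₃ n₀ n₁ h)
    exact (ShortComplex.isoMk (T.I₂.isoRightDerivedObj F n₀) (T.I₃.isoRightDerivedObj F n₀) (T.I₁.isoRightDerivedObj F n₁)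
      (InjectiveResolution.isoRightDerivedObj_hom_naturality S.g _ _ T.g (ι_g_zero T) F n₀).symm
      (T.delta_comp_isoRightDerivedObj_hom F n₀ n₁ h).symm).symm
  · let T := res S hS
    rw [← cancel_mono (T.I₂.isoRightDerivedObj F n₁).hom, Category.assoc, zero_comp,
      InjectiveResolution.isoRightDerivedObj_hom_naturality S.f _ _ T.f (ι_f_zero T) F n₁,
      T.delta_comp_isoRightDerivedObj_hom_assoc]
    exact (Category.assoc _ _ _).trans ((congrArg (fun k => (T.I₃.isoRightDerivedObj F n₀).hom ≫ k)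
      ((T.map_shortExact F).δ_comp n₀ n₁ h)).trans comp_zero)
  · let T := res S hS
    refine ShortComplex.exact_of_iso ?_ ((T.map_shortExact F).homology_exact₁ n₀ n₁ h)
    exact (ShortComplex.isoMk (T.I₃.isoRightDerivedObj F n₀) (T.I₁.isoRightDerivedObj F n₁) (T.I₂.isoRightDerivedObj F n₁)
      (T.delta_comp_isoRightDerivedObj_hom F n₀ n₁ h).symm
      (InjectiveResolution.isoRightDerivedObj_hom_naturality S.f _ _ T.f (ι_f_zero T) F n₁).symm).symm

/-- The delta-functor of right derived functors is effaceable. -/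
theorem isEffaceable (Δ : RDer.DerivedLES F) : Δ.toCohDeltaFunctor.IsEffaceable := fun n X =>
  ⟨(injectiveResolution X).cocomplex.X 0, aug _, inferInstance,
    (F.isZero_rightDerived_obj_injective_succ n ((injectiveResolution X).cocomplex.X 0)).eq_of_tgt _ _⟩

end Groth.Agent.H16Derived.RDerLES
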