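import Groth.Prelude.Def_RDer
import Groth.Prelude.Def_RDerDelta
import Mathlib.CategoryTheory.Abelian.Refinements
import Mathlib.CategoryTheory.Abelian.Injective.Resolution
import Mathlib.Algebra.Homology.HomologySequenceLemmas

/-!
# Morphisms between injective resolutions of short complexes
-/

set_option autoImplicit false
set_option linter.style.haveILetI false

universe v u v' u'

open CategoryTheory CategoryTheory.Limits

namespace Groth.Agent.H16Derived.RDerLES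

variable {C : Type u} [Category.{v} C] [Abelian C]

/-- A map on the image of `biprod.desc p q`, prescribed by `a` and `b`, extends to an injective. -/
lemma exists_joint_extend {P Q Y Z : C} [Injective Z] (p : P ⟶ Y) (q : Q ⟶ Y) (a : P ⟶ Z) (b : Q ⟶ Z)
    (h : ∀ (T : C) (x : T ⟶ P) (y : T ⟶ Q), x ≫ p + y ≫ q = 0 →
      ∃ (T' : C) (π : T' ⟶ T) (_ : Epi π), π ≫ x ≫ a + π ≫ y ≫ b = 0) :
    ∃ e : Y ⟶ Z, p ≫ e = a ∧ q ≫ e = b := by
  let m := biprod.desc p q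
  let k := biprod.desc a b
  have hm : m = biprod.fst ≫ p + biprod.snd ≫ q := biprod.desc_eq
  have hk : kernel.ι m ≫ k = 0 := by
    obtain ⟨T', π, hπ, e⟩ := h _ (kernel.ι m ≫ biprod.fst) (kernel.ι m ≫ biprod.snd) (by
      rw [Category.assoc, Category.assoc, ← Preadditive.comp_add, ← hm]
      exact kernel.condition m)
    rw [← cancel_epi π, comp_zero, ← e]
    simp [k, biprod.desc_eq, Preadditive.comp_add]
  let F := Injective.factorThru (cokernel.desc _ k hk) (Abelian.factorThruCoimage m)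
  have hF : m ≫ F = k := by
    have e := congrArg (cokernel.π (kernel.ι m) ≫ ·)
      (Injective.comp_factorThru (cokernel.desc _ k hk) (Abelian.factorThruCoimage m))
    refine Eq.trans ?_ (e.trans (cokernel.π_desc _ _ _))
    exact Eq.trans (congrArg (· ≫ F) (cokernel.π_desc (kernel.ι m) m (kernel.condition m)).symm) (Category.assoc _ _ _)
  refine ⟨F, ?_, ?_⟩
  · have := congrArg (biprod.inl ≫ ·) hF
    simpa only [m, k, biprod.inl_desc, biprod.inl_desc_assoc] using this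
  · have := congrArg (biprod.inr ≫ ·) hF
    simpa only [m, k, biprod.inr_desc, biprod.inr_desc_assoc] using this

/-- The augmentation of an injective resolution in degree `0`. -/
noncomputable def aug {X : C} (I : InjectiveResolution X) : X ⟶ I.cocomplex.X 0 := I.ι.f 0

instance mono_aug {X : C} (I : InjectiveResolution X) : Mono (aug I) := RDer.res_mono I.cocomplex I.ι

@[reassoc]
lemma aug_d {X : C} (I : InjectiveResolution X) : aug I ≫ I.cocomplex.d 0 1 = 0 := RDer.res_ι_d I.cocomplex I.ι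

lemma exact_aug {X : C} (I : InjectiveResolution X) :
    (ShortComplex.mk (aug I) (I.cocomplex.d 0 1) (aug_d I)).Exact := RDer.res_exact₀ I.cocomplex I.ι

variable {S S' : ShortComplex C} (T : RDer.SESRes S)

lemma mono_f (n : ℕ) : Mono (T.f.f n) := (T.splitting n).shortExact.mono_f

lemma epi_g (n : ℕ) : Epi (T.g.f n) := (T.splitting n).shortExact.epi_g

lemma exists_of_g_eq_zero (n : ℕ) {W : C} (y : W ⟶ T.I₂.cocomplex.X n) (hy : y ≫ T.g.f n = 0) :
    ∃ x : W ⟶ T.I₁.cocomplex.X n, x ≫ T.f.f n = y := by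
  have h := (T.splitting n).shortExact
  haveI := h.mono_f
  exact ⟨h.exact.lift y hy, h.exact.lift_f y hy⟩

lemma ι_f₀ : (aug T.I₁) ≫ T.f.f 0 = S.f ≫ (aug T.I₂) := by
  have := congrArg (fun φ => HomologicalComplex.Hom.f φ 0) T.ι_f
  simpa [aug] using this

lemma ι_g₀ : (aug T.I₂) ≫ T.g.f 0 = S.g ≫ (aug T.I₃) := by
  have := congrArg (fun φ => HomologicalComplex.Hom.f φ 0) T.ι_g
  simpa [aug] using this

/-- The middle component of a morphism of resolutions exists. -/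
theorem exists_middle (hS : S.ShortExact) {Y : C} (J : InjectiveResolution Y) (φ₂ : S.X₂ ⟶ Y)
    (k : T.I₁.cocomplex ⟶ J.cocomplex) (hk : (aug T.I₁) ≫ k.f 0 = S.f ≫ φ₂ ≫ (aug J)) :
    ∃ h : T.I₂.cocomplex ⟶ J.cocomplex, T.f ≫ h = k ∧ (aug T.I₂) ≫ h.f 0 = φ₂ ≫ (aug J) := by
  have e₀ : ∃ h₀ : T.I₂.cocomplex.X 0 ⟶ J.cocomplex.X 0, T.f.f 0 ≫ h₀ = k.f 0 ∧ (aug T.I₂) ≫ h₀ = φ₂ ≫ (aug J) := by
    refine exists_joint_extend _ _ _ _ fun W x y hxy => ?_
    have hy : y ≫ S.g = 0 := by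
      haveI : Mono ((aug T.I₃)) := inferInstance
      rw [← cancel_mono ((aug T.I₃)), zero_comp, Category.assoc, ← ι_g₀ T]
      have h := congrArg (· ≫ T.g.f 0) hxy
      simpa [Preadditive.add_comp, Category.assoc, ← HomologicalComplex.comp_f, T.zero] using h
    obtain ⟨W', π, hπ, w, hw⟩ := hS.exact.exact_up_to_refinements y hy
    have hx : π ≫ x = -(w ≫ (aug T.I₁)) := by
      haveI := mono_f T 0
      rw [← cancel_mono (T.f.f 0), Preadditive.neg_comp, Category.assoc, Category.assoc, ι_f₀ T, ← reassoc_of% hw,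
        eq_neg_iff_add_eq_zero, ← Preadditive.comp_add, hxy, comp_zero]
    refine ⟨W', π, hπ, ?_⟩
    rw [reassoc_of% hx, reassoc_of% hw, Preadditive.neg_comp, Category.assoc, hk, neg_add_cancel]
  obtain ⟨h₀, hh₀, hι⟩ := e₀
  -- the inductive datum
  let P : ℕ → Type v := fun n => {h : T.I₂.cocomplex.X n ⟶ J.cocomplex.X n // T.f.f n ≫ h = k.f n ∧
    (∀ (W : C) (b : W ⟶ T.I₂.cocomplex.X n), b ≫ T.I₂.cocomplex.d n (n + 1) = 0 →
      ∃ (W' : C) (π : W' ⟶ W) (_ : Epi π), π ≫ b ≫ h ≫ J.cocomplex.d n (n + 1) = 0)}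
  have hzero : T.f.f 0 ≫ h₀ = k.f 0 ∧ (∀ (W : C) (b : W ⟶ T.I₂.cocomplex.X 0), b ≫ T.I₂.cocomplex.d 0 1 = 0 →
      ∃ (W' : C) (π : W' ⟶ W) (_ : Epi π), π ≫ b ≫ h₀ ≫ J.cocomplex.d 0 1 = 0) := by
    refine ⟨hh₀, fun W b hb => ?_⟩
    obtain ⟨W', π, hπ, z, hz⟩ := (exact_aug T.I₂).exact_up_to_refinements b hb
    refine ⟨W', π, hπ, ?_⟩
    rw [reassoc_of% hz, reassoc_of% hι]
    simp [aug_d]
  have hstep : ∀ n (s : P n), ∃ s' : P (n + 1),
      T.I₂.cocomplex.d n (n + 1) ≫ s'.1 = s.1 ≫ J.cocomplex.d n (n + 1) := by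
    rintro n ⟨h, hfh, hker⟩
    have e : ∃ h' : T.I₂.cocomplex.X (n + 1) ⟶ J.cocomplex.X (n + 1),
        T.f.f (n + 1) ≫ h' = k.f (n + 1) ∧ T.I₂.cocomplex.d n (n + 1) ≫ h' = h ≫ J.cocomplex.d n (n + 1) := by
      refine exists_joint_extend _ _ _ _ fun W x y hxy => ?_
      -- `y` becomes a cycle downstairs
      have hyg : (y ≫ T.g.f n) ≫ T.I₃.cocomplex.d n (n + 1) = 0 := by
        rw [Category.assoc, T.g.comm]
        have h := congrArg (· ≫ T.g.f (n + 1)) hxy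
        simpa [Preadditive.add_comp, Category.assoc, ← HomologicalComplex.comp_f, T.zero] using h
      have key : ∃ (W₁ : C) (π : W₁ ⟶ W) (_ : Epi π) (a : W₁ ⟶ T.I₁.cocomplex.X n) (b : W₁ ⟶ T.I₂.cocomplex.X n),
          b ≫ T.I₂.cocomplex.d n (n + 1) = 0 ∧ π ≫ y = a ≫ T.f.f n + b := by
        cases n with
        | zero =>
          obtain ⟨W₁, π₁, hπ₁, z, hz⟩ := (exact_aug T.I₃).exact_up_to_refinements _ hyg
          haveI := hS.epi_g
          obtain ⟨W₂, π₂, hπ₂, x₂, hx₂⟩ := surjective_up_to_refinements_of_epi S.g z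
          have e : (π₂ ≫ π₁ ≫ y - x₂ ≫ (aug T.I₂)) ≫ T.g.f 0 = 0 := by
            rw [Preadditive.sub_comp, Category.assoc, Category.assoc, Category.assoc, hz, ι_g₀ T, reassoc_of% hx₂, sub_self]
          obtain ⟨a, ha⟩ := exists_of_g_eq_zero T 0 _ e
          refine ⟨W₂, π₂ ≫ π₁, epi_comp' hπ₂ hπ₁, a, x₂ ≫ (aug T.I₂), ?_, by rw [ha]; simp⟩
          rw [Category.assoc, aug_d, comp_zero]
        | succ m =>
          obtain ⟨W₁, π₁, hπ₁, z, hz⟩ := (RDer.res_exact_succ T.I₃.cocomplex T.I₃.ι m).exact_up_to_refinements _ hyg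
          have hz' : π₁ ≫ y ≫ T.g.f (m + 1) = z ≫ T.I₃.cocomplex.d m (m + 1) := hz
          haveI := epi_g T m
          obtain ⟨W₂, π₂, hπ₂, b', hb'⟩ := surjective_up_to_refinements_of_epi (T.g.f m) z
          have e : (π₂ ≫ π₁ ≫ y - b' ≫ T.I₂.cocomplex.d m (m + 1)) ≫ T.g.f (m + 1) = 0 := by
            rw [Preadditive.sub_comp, Category.assoc, Category.assoc, Category.assoc, hz', ← T.g.comm, reassoc_of% hb', sub_self]
          obtain ⟨a, ha⟩ := exists_of_g_eq_zero T (m + 1) _ e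
          exact ⟨W₂, π₂ ≫ π₁, epi_comp' hπ₂ hπ₁, a, b' ≫ T.I₂.cocomplex.d m (m + 1), by simp, by rw [ha]; simp⟩
      obtain ⟨W₁, π, hπ, a, b, hb, hy⟩ := key
      have hx : π ≫ x = -(a ≫ T.I₁.cocomplex.d n (n + 1)) := by
        haveI := mono_f T (n + 1)
        rw [← cancel_mono (T.f.f (n + 1)), Preadditive.neg_comp, Category.assoc, Category.assoc, ← T.f.comm,
          eq_neg_iff_add_eq_zero]
        have : a ≫ T.f.f n ≫ T.I₂.cocomplex.d n (n + 1) = π ≫ y ≫ T.I₂.cocomplex.d n (n + 1) := by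
          rw [reassoc_of% hy, Preadditive.add_comp, hb, add_zero, Category.assoc]
        rw [this, ← Preadditive.comp_add, hxy, comp_zero]
      obtain ⟨W₂, π₂, hπ₂, hb'⟩ := hker W₁ b hb
      refine ⟨W₂, π₂ ≫ π, epi_comp' hπ₂ hπ, ?_⟩
      simp only [Category.assoc, reassoc_of% hx, reassoc_of% hy, Preadditive.comp_add, Preadditive.add_comp,
        Preadditive.neg_comp, Preadditive.comp_neg, ← k.comm, ← hfh, hb', add_zero]
      abel
    obtain ⟨h', h₁, h₂⟩ := e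
    refine ⟨⟨h', h₁, fun W b hb => ?_⟩, h₂⟩
    obtain ⟨W', π, hπ, z, hz⟩ := (RDer.res_exact_succ T.I₂.cocomplex T.I₂.ι n).exact_up_to_refinements b hb
    have hz' : π ≫ b = z ≫ T.I₂.cocomplex.d n (n + 1) := hz
    refine ⟨W', π, hπ, ?_⟩
    rw [reassoc_of% hz', reassoc_of% h₂]
    simp
  choose step hstep using hstep
  let seq : ∀ n, P n := fun n => Nat.rec ⟨h₀, hzero⟩ (fun n s => step n s) n
  let h : T.I₂.cocomplex ⟶ J.cocomplex :=
    { f := fun n => (seq n).1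
      comm' := fun i j hij => by
        obtain rfl : i + 1 = j := hij
        exact (hstep i (seq i)).symm }
  refine ⟨h, ?_, hι⟩
  ext n
  exact (seq n).2.1

/-- A morphism of short complexes lifts to the resolutions. -/
theorem exists_hom (hS : S.ShortExact) (T' : RDer.SESRes S') (φ : S ⟶ S') :
    ∃ Φ : T.cx ⟶ T'.cx, (aug T.I₁) ≫ Φ.τ₁.f 0 = φ.τ₁ ≫ (aug T'.I₁) ∧
      (aug T.I₂) ≫ Φ.τ₂.f 0 = φ.τ₂ ≫ (aug T'.I₂) ∧ (aug T.I₃) ≫ Φ.τ₃.f 0 = φ.τ₃ ≫ (aug T'.I₃) := by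
  let h₁ := InjectiveResolution.desc φ.τ₁ T'.I₁ T.I₁
  have hh₁ : (aug T.I₁) ≫ h₁.f 0 = φ.τ₁ ≫ (aug T'.I₁) := by
    exact InjectiveResolution.desc_commutes_zero φ.τ₁ T'.I₁ T.I₁
  obtain ⟨h₂, hf, hh₂⟩ := exists_middle T hS T'.I₂ φ.τ₂ (h₁ ≫ T'.f) (by
    simp only [HomologicalComplex.comp_f, reassoc_of% hh₁, ι_f₀ T', φ.comm₁₂_assoc])
  haveI : Epi T.g := T.shortExact.epi_g
  let h₃ := T.shortExact.exact.desc (h₂ ≫ T'.g) (by
    show T.f ≫ h₂ ≫ T'.g = 0
    rw [reassoc_of% hf, T'.zero, comp_zero])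
  have hg : T.g ≫ h₃ = h₂ ≫ T'.g := T.shortExact.exact.g_desc _ _
  refine ⟨{ τ₁ := h₁, τ₂ := h₂, τ₃ := h₃, comm₁₂ := hf.symm, comm₂₃ := hg.symm }, hh₁, hh₂, ?_⟩
  haveI := hS.epi_g
  show (aug T.I₃) ≫ h₃.f 0 = φ.τ₃ ≫ (aug T'.I₃)
  have e := congrArg (fun ψ => (aug T.I₂) ≫ HomologicalComplex.Hom.f ψ 0) hg
  simp only [HomologicalComplex.comp_f, reassoc_of% (ι_g₀ T), reassoc_of% hh₂, ι_g₀ T'] at e
  rw [← cancel_epi S.g, e, φ.comm₂₃_assoc]

variable [HasInjectiveResolutions C] {D : Type u'} [Category.{v'} D] [Abelian D] (F : C ⥤ D) [F.Additive]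

/-- The connecting morphism of a resolution is natural. -/
theorem delta_natural (hS : S.ShortExact) (T' : RDer.SESRes S') (φ : S ⟶ S') (n₀ n₁ : ℕ) (h : n₀ + 1 = n₁) :
    (F.rightDerived n₀).map φ.τ₃ ≫ T'.delta F n₀ n₁ h = T.delta F n₀ n₁ h ≫ (F.rightDerived n₁).map φ.τ₁ := by
  obtain ⟨Φ, h₁, -, h₃⟩ := exists_hom T hS T' φ
  rw [← cancel_mono (T'.I₁.isoRightDerivedObj F n₁).hom, Category.assoc, Category.assoc,
    T'.delta_comp_isoRightDerivedObj_hom, InjectiveResolution.isoRightDerivedObj_hom_naturality φ.τ₁ _ _ Φ.τ₁ h₁,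
    T.delta_comp_isoRightDerivedObj_hom_assoc]
  refine ((Category.assoc _ _ _).symm.trans ((congrArg (· ≫ _)
    (InjectiveResolution.isoRightDerivedObj_hom_naturality φ.τ₃ _ _ Φ.τ₃ h₃ F n₀)).trans (Category.assoc _ _ _))).trans ?_
  refine Eq.trans ?_ (Category.assoc _ _ _).symm
  congr 1
  exact (HomologicalComplex.HomologySequence.δ_naturality ((F.mapHomologicalComplex _).mapShortComplex.map Φ)
    (T.map_shortExact F) (T'.map_shortExact F) n₀ n₁ h).symm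

include T in
/-- A resolution shows that the complex is short exact. -/
theorem shortExact_of_res : S.ShortExact where
  mono_f := by
    haveI := mono_f T 0
    haveI : Mono (S.f ≫ (aug T.I₂)) := by rw [← ι_f₀ T]; infer_instance
    exact mono_of_mono S.f ((aug T.I₂))
  exact := by
    rw [ShortComplex.exact_iff_exact_up_to_refinements]
    intro W x₂ hx
    obtain ⟨a, ha⟩ := exists_of_g_eq_zero T 0 (x₂ ≫ (aug T.I₂)) (by
      rw [Category.assoc, ι_g₀ T, reassoc_of% hx, zero_comp])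
    have had : a ≫ T.I₁.cocomplex.d 0 1 = 0 := by
      haveI := mono_f T 1
      rw [← cancel_mono (T.f.f 1), zero_comp, Category.assoc, ← T.f.comm, reassoc_of% ha, aug_d, comp_zero]
    obtain ⟨W', π, hπ, x₁, hx₁⟩ := (exact_aug T.I₁).exact_up_to_refinements a had
    have hx₁' : π ≫ a = x₁ ≫ (aug T.I₁) := hx₁
    refine ⟨W', π, hπ, x₁, ?_⟩
    rw [← cancel_mono ((aug T.I₂)), Category.assoc, Category.assoc, ← ι_f₀ T, ← reassoc_of% hx₁', ha]
  epi_g := by
    rw [epi_iff_surjective_up_to_refinements]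
    intro W z
    haveI := epi_g T 0
    obtain ⟨W₁, π₁, hπ₁, b, hb⟩ := surjective_up_to_refinements_of_epi (T.g.f 0) (z ≫ (aug T.I₃))
    obtain ⟨a, ha⟩ := exists_of_g_eq_zero T 1 (b ≫ T.I₂.cocomplex.d 0 1) (by
      rw [Category.assoc, ← T.g.comm, ← reassoc_of% hb, aug_d, comp_zero, comp_zero])
    have had : a ≫ T.I₁.cocomplex.d 1 2 = 0 := by
      haveI := mono_f T 2
      rw [← cancel_mono (T.f.f 2), zero_comp, Category.assoc, ← T.f.comm, reassoc_of% ha]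
      simp
    obtain ⟨W₂, π₂, hπ₂, a₀, ha₀⟩ := (RDer.res_exact_succ T.I₁.cocomplex T.I₁.ι 0).exact_up_to_refinements a had
    have ha₀' : π₂ ≫ a = a₀ ≫ T.I₁.cocomplex.d 0 1 := ha₀
    have hc : (π₂ ≫ b - a₀ ≫ T.f.f 0) ≫ T.I₂.cocomplex.d 0 1 = 0 := by
      rw [Preadditive.sub_comp, Category.assoc, Category.assoc, T.f.comm, ← reassoc_of% ha₀', ha, sub_self]
    obtain ⟨W₃, π₃, hπ₃, x, hx⟩ := (exact_aug T.I₂).exact_up_to_refinements _ hc
    have hx' : π₃ ≫ (π₂ ≫ b - a₀ ≫ T.f.f 0) = x ≫ (aug T.I₂) := hx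
    refine ⟨W₃, π₃ ≫ π₂ ≫ π₁, epi_comp' hπ₃ (epi_comp' hπ₂ hπ₁), x, ?_⟩
    rw [← cancel_mono ((aug T.I₃)), Category.assoc, Category.assoc, Category.assoc, Category.assoc, ← ι_g₀ T,
      ← reassoc_of% hx', Preadditive.sub_comp, Category.assoc, Category.assoc, hb, ← HomologicalComplex.comp_f, T.zero]
    simp

/-- Independence of the resolution. -/
theorem delta_eq (T' : RDer.SESRes S) (n₀ n₁ : ℕ) (h : n₀ + 1 = n₁) :
    T.delta F n₀ n₁ h = T'.delta F n₀ n₁ h := by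
  simpa using (delta_natural T F (shortExact_of_res T) T' (𝟙 S) n₀ n₁ h).symm

end Groth.Agent.H16Derived.RDerLES
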